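import Groth.Agent.Lib.Homog14.Basic
import Groth.Agent.Lib.GrpdQuot.InvariantOpen
import Groth.Agent.S5354

/-!
# Homogeneous schemes over a field: sweeping an open by the component of the unit
-/

set_option autoImplicit false
set_option backward.isDefEq.respectTransparency false

universe u

open CategoryTheory CategoryTheory.Limits MonoidalCategory CartesianMonoidalCategory MonObj GrpObj
open AlgebraicGeometry TopologicalSpace
open GrothLib.GrpSchField (hom_ext_points₂)

noncomputable section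

namespace GrothLib.Homog14

variable {k : Type u} [Field k] {G P : Over (Spec (CommRingCat.of k))} [GrpObj G] {a : AlgGrp.Action G P}

/-- The component of the unit preserves the irreducible components. -/
theorem isMax_specializes_act_iff (ha : Trans a) {r : ↥(G ⊗ P).left} (hr : (fst G P).left r ∈ Z₀ G) {ξ : P.left}
    (hξ : IsMax ξ) : ξ ⤳ a.act.left r ↔ ξ ⤳ (snd G P).left r := by
  obtain ⟨G₀, _, a₀, i, hgi, hact, hi, hrange, hlift⟩ := exists_restrict a
  let u₀ := (snd G P).left r
  let T : Over (Spec (CommRingCat.of k)) := Over.mk (P.left.fromSpecResidueField u₀ ≫ P.hom)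
  let j : T ⟶ P := Over.homMk (P.left.fromSpecResidueField u₀) rfl
  haveI : UniversallyOpen G₀.hom := inferInstance
  haveI : IrreducibleSpace T.left := inferInstanceAs (IrreducibleSpace (Spec (P.left.residueField u₀)))
  haveI : IrreducibleSpace (G₀ ⊗ T).left := inferInstanceAs (IrreducibleSpace (pullback G₀.hom T.hom : Scheme.{u}))
  let φ := (G₀ ◁ j) ≫ a₀.act
  have hirr : IsIrreducible (Set.range φ.left.base) := by
    rw [← Set.image_univ]
    exact (IrreducibleSpace.isIrreducible_univ _).image _ φ.left.continuous.continuousOn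
  have hu : u₀ ∈ Set.range φ.left.base := by
    refine ⟨(lift (toUnit T ≫ η[G₀]) (𝟙 T)).left (default : Spec (P.left.residueField u₀)), ?_⟩
    rw [← Scheme.Hom.comp_apply, ← Over.comp_left, lift_whiskerLeft_assoc, Category.id_comp,
      ← Hom.one_def, GrothLib.GrpSchField.act_one]
    exact Scheme.fromSpecResidueField_apply _ _
  have hy : a.act.left r ∈ Set.range φ.left.base := by
    obtain ⟨r₀, hr₀⟩ := hlift r hr
    have h2 : (snd G₀ P).left r₀ = u₀ := by
      show _ = (snd G P).left r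
      rw [← hr₀, ← Scheme.Hom.comp_apply, ← Over.comp_left, whiskerRight_snd]
    obtain ⟨w, hw, -⟩ := Scheme.exists_preimage_of_isPullback (GrothLib.GrpSchField.whiskerLeft_snd_isPullback G₀ j) r₀
      (default : Spec (P.left.residueField u₀)) (h2.trans (Scheme.fromSpecResidueField_apply _ _).symm)
    refine ⟨w, ?_⟩
    rw [Over.comp_left, Scheme.Hom.comp_apply, hw, hact, Over.comp_left, Scheme.Hom.comp_apply, hr₀]
  obtain ⟨c, hc⟩ := QuasiSober.sober hirr.closure isClosed_closure
  obtain ⟨ξ₀, hm, hle, -⟩ := exists_isMax c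
  have h1 := hle.trans (hc.specializes (subset_closure hu))
  have h2 := hle.trans (hc.specializes (subset_closure hy))
  exact ⟨fun h => unique_max ha hm hξ h2 h ▸ h1, fun h => unique_max ha hm hξ h1 h ▸ h2⟩

/-- The swept set consists of the components whose generic point lies in the open. -/
theorem mem_sweep_iff (ha : Trans a) (U : P.left.Opens) {y : P.left} :
    y ∈ sweep a U ↔ ∃ ξ, IsMax ξ ∧ ξ ⤳ y ∧ ξ ∈ U := by
  constructor
  · rintro ⟨r, ⟨hr₁, hr₂⟩, rfl⟩
    obtain ⟨ξ, hξ, hle, -⟩ := exists_isMax ((snd G P).left r)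
    exact ⟨ξ, hξ, (isMax_specializes_act_iff ha hr₁ hξ).2 hle, hle.mem_open U.2 hr₂⟩
  · rintro ⟨ξ, hξ, hle, hU⟩
    obtain ⟨r, hr₁, hr₂, hr₃⟩ := exists_from_max ha hξ hle
    exact ⟨r, ⟨mem_Z₀ hr₁, hr₂ ▸ hU⟩, hr₃⟩

theorem sweep_eq_sUnion (ha : Trans a) (U : P.left.Opens) :
    sweep a U = ⋃₀ {Z : Set P.left | Z ∈ irreducibleComponents ↥P.left ∧ ∃ ξ ∈ U, closure {ξ} = Z} := by
  ext y
  rw [mem_sweep_iff ha U]
  constructor
  · rintro ⟨ξ, hξ, hle, hU⟩
    exact ⟨_, ⟨hξ.mem_components, ξ, hU, rfl⟩, hle.mem_closure⟩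
  · rintro ⟨_, ⟨hZ, ξ, hU, rfl⟩, hy⟩
    obtain ⟨ξ', hξ', he⟩ := exists_isMax_of_mem hZ
    have : ξ' = ξ := IsGenericPoint.eq (S := closure {ξ}) he rfl
    exact ⟨ξ, this ▸ hξ', specializes_iff_mem_closure.2 hy, hU⟩

theorem sweep_eq_image {G₀ : Over (Spec (CommRingCat.of k))} [GrpObj G₀] (a₀ : AlgGrp.Action G₀ P) (i : G₀ ⟶ G)
    (hact : a₀.act = (i ▷ P) ≫ a.act) (hrange : Set.range i.left = Z₀ G)
    (hlift : ∀ r : ↥(G ⊗ P).left, (fst G P).left r ∈ Z₀ G → ∃ r₀, (i ▷ P).left r₀ = r) (U : P.left.Opens) :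
    sweep a U = a₀.act.left.base '' ((snd G₀ P).left.base ⁻¹' U) := by
  have hs : ∀ r₀, (snd G P).left ((i ▷ P).left r₀) = (snd G₀ P).left r₀ := fun r₀ => by
    rw [← Scheme.Hom.comp_apply, ← Over.comp_left, whiskerRight_snd]
  have hact' : ∀ r₀, a.act.left ((i ▷ P).left r₀) = a₀.act.left r₀ := fun r₀ => by
    rw [hact, Over.comp_left, Scheme.Hom.comp_apply]
  ext y
  constructor
  · rintro ⟨r, ⟨hr₁, hr₂⟩, rfl⟩
    obtain ⟨r₀, rfl⟩ := hlift r hr₁
    exact ⟨r₀, Set.mem_preimage.2 (by rw [← hs]; exact hr₂), (hact' r₀).symm⟩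
  · rintro ⟨r₀, hr₀, rfl⟩
    refine ⟨(i ▷ P).left r₀, ⟨?_, (hs r₀).symm ▸ hr₀⟩, hact' r₀⟩
    rw [← hrange, ← Scheme.Hom.comp_apply, ← Over.comp_left, whiskerRight_fst, Over.comp_left, Scheme.Hom.comp_apply]
    exact Set.mem_range_self _

theorem isOpen_sweep (a : AlgGrp.Action G P) (U : P.left.Opens) : IsOpen (sweep a U) := by
  obtain ⟨G₀, _, a₀, i, -, hact, -, hrange, hlift⟩ := exists_restrict a
  rw [sweep_eq_image a₀ i hact hrange hlift U]
  haveI := universallyOpen_act a₀
  exact a₀.act.left.isOpenMap _ (U.2.preimage (snd G₀ P).left.continuous)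

theorem subset_sweep (ha : Trans a) (U : P.left.Opens) : (U : Set P.left) ⊆ sweep a U := fun y hy => by
  obtain ⟨ξ, hξ, hle, -⟩ := exists_isMax y
  exact (mem_sweep_iff ha U).2 ⟨ξ, hξ, hle, hle.mem_open U.2 hy⟩

/-- Points of the closure of a retrocompact open specialize from it. -/
theorem exists_specializes_of_retrocompact {P : Scheme.{u}} (U : P.Opens) (hU : IsRetrocompact (U : Set P)) {y : P}
    (hy : y ∈ closure (U : Set P)) : ∃ z ∈ U, z ⤳ y := by
  obtain ⟨O, hO, hyO, -⟩ := exists_isAffineOpen_mem_and_subset (x := y) (U := (⊤ : P.Opens)) trivial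
  have hc : IsCompact ((U ⊓ O : P.Opens) : Set P) := hU hO.isCompact O.2
  haveI : CompactSpace (U ⊓ O : P.Opens).toScheme := isCompact_iff_compactSpace.mp hc
  haveI : IsAffine O.toScheme := hO
  let f := P.homOfLE (inf_le_right : U ⊓ O ≤ O)
  haveI : QuasiCompact f := inferInstance
  obtain ⟨y', rfl⟩ : y ∈ Set.range O.ι := by rwa [Scheme.Opens.range_ι]
  have hy' : y' ∈ closure (f.base '' Set.univ) := by
    have h1 : O.ι.base ⁻¹' (U : Set P) ⊆ f.base '' Set.univ := by
      intro z hz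
      obtain ⟨w, hw⟩ : O.ι z ∈ Set.range (U ⊓ O : P.Opens).ι := by
        rw [Scheme.Opens.range_ι]; exact ⟨hz, z.2⟩
      refine ⟨w, trivial, O.ι.isOpenEmbedding.injective ?_⟩
      rw [← Scheme.Hom.comp_apply, Scheme.homOfLE_ι]
      exact hw
    refine closure_mono h1 ?_
    rw [← O.ι.isOpenEmbedding.isOpenMap.preimage_closure_eq_closure_preimage O.ι.continuous]
    exact hy
  obtain ⟨w, -, hw⟩ := GrothLib.GrpdQuot.exists_specializes_of_mem_closure f Set.univ isClosed_univ y' hy'
  refine ⟨(U ⊓ O : P.Opens).ι w, w.2.1, ?_⟩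
  rw [← Scheme.homOfLE_ι P (inf_le_right : U ⊓ O ≤ O), Scheme.Hom.comp_apply]
  exact hw.map O.ι.continuous

theorem sweep_eq_closure (ha : Trans a) (U : P.left.Opens) (hU : IsRetrocompact (U : Set P.left)) :
    sweep a U = closure (U : Set P.left) := by
  refine Set.Subset.antisymm (fun y hy => ?_) fun y hy => ?_
  · obtain ⟨ξ, -, hle, hξU⟩ := (mem_sweep_iff ha U).1 hy
    exact closure_mono (Set.singleton_subset_iff.2 hξU) hle.mem_closure
  · obtain ⟨z, hz, hzy⟩ := exists_specializes_of_retrocompact U hU hy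
    obtain ⟨ξ, hξ, hle, -⟩ := exists_isMax z
    exact (mem_sweep_iff ha U).2 ⟨ξ, hξ, hle.trans hzy, hle.mem_open U.2 hz⟩

/-- An irreducible group is quasi-compact. -/
theorem compactSpace_of_irreducible (H : Over (Spec (CommRingCat.of k))) [GrpObj H] [IrreducibleSpace H.left] :
    CompactSpace H.left := by
  obtain ⟨U, hU, heU, -⟩ := exists_isAffineOpen_mem_and_subset (x := η[H].left (IsLocalRing.closedPoint k))
    (U := (⊤ : H.left.Opens)) trivial
  haveI : IsAffine U.toScheme := hU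
  let m := pullback.map (U.ι ≫ H.hom) (U.ι ≫ H.hom) H.hom H.hom U.ι U.ι (𝟙 _) (by simp) (by simp)
  haveI : CompactSpace ↥(pullback (U.ι ≫ H.hom) (U.ι ≫ H.hom) : Scheme.{u}) := inferInstance
  refine ⟨?_⟩
  have : (Set.univ : Set H.left) = μ[H].left.base '' Set.range m.base := by
    refine (Set.eq_univ_of_forall fun x => ?_).symm
    obtain ⟨z, hz, h1, h2⟩ := Groth.Agent.S5354.result k H x
    have key : ∀ g : H.left, closure {g} ∈ irreducibleComponents ↥H.left → g ∈ U := fun g hg => by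
      rw [irreducibleComponents_eq_singleton, Set.mem_singleton_iff] at hg
      exact (specializes_iff_mem_closure.2 (hg ▸ Set.mem_univ _)).mem_open U.2 heU
    refine ⟨z, ?_, hz⟩
    show z ∈ Set.range (pullback.map (U.ι ≫ H.hom) (U.ι ≫ H.hom) H.hom H.hom U.ι U.ι (𝟙 _) (by simp) (by simp)).base
    rw [Scheme.Pullback.range_map]
    refine ⟨?_, ?_⟩
    · rw [Set.mem_preimage, Scheme.Opens.range_ι]; exact key _ h1
    · rw [Set.mem_preimage, Scheme.Opens.range_ι]; exact key _ h2
  rw [this]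
  exact (isCompact_range m.continuous).image μ[H].left.continuous

theorem compactSpace_of_irreducible_homogeneous (ha : Trans a) [IrreducibleSpace P.left] : CompactSpace P.left := by
  obtain ⟨G₀, _, a₀, i, hgi, hact, -, hrange, hlift⟩ := exists_restrict a
  haveI : IrreducibleSpace G₀.left :=
    haveI : Nonempty G₀.left := ⟨η[G₀].left (IsLocalRing.closedPoint k)⟩
    GeometricallyIrreducible.irreducibleSpace_of_subsingleton (f := G₀.hom)
  haveI := compactSpace_of_irreducible G₀
  haveI : QuasiCompact G₀.hom := inferInstance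
  obtain ⟨y₀⟩ := (inferInstance : Nonempty P.left)
  obtain ⟨U, hU, hyU, -⟩ := exists_isAffineOpen_mem_and_subset (x := y₀) (U := (⊤ : P.left.Opens)) trivial
  haveI : QuasiCompact (snd G₀ P).left := inferInstanceAs (QuasiCompact (pullback.snd G₀.hom P.hom))
  refine ⟨?_⟩
  have h : (Set.univ : Set P.left) = sweep a U := by
    refine (Set.eq_univ_of_forall fun y => ?_).symm
    obtain ⟨ξ, hξ, hle, -⟩ := exists_isMax y
    refine (mem_sweep_iff ha U).2 ⟨ξ, hξ, hle, ?_⟩
    have hm := hξ.mem_components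
    rw [irreducibleComponents_eq_singleton, Set.mem_singleton_iff] at hm
    exact (specializes_iff_mem_closure.2 (hm ▸ Set.mem_univ _)).mem_open U.2 hyU
  rw [h, sweep_eq_image a₀ i hact hrange hlift U]
  exact ((snd G₀ P).left.isCompact_preimage hU.isCompact).image a₀.act.left.continuous

theorem connectedComponent_eq (ha : Trans a) [QuasiSeparatedSpace P.left] (x : P.left) :
    connectedComponent x = irreducibleComponent x := by
  refine Set.Subset.antisymm (fun y hy => ?_) irreducibleComponent_subset_connectedComponent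
  obtain ⟨ξ, hξ, hle, he⟩ := exists_isMax x
  by_contra hne
  obtain ⟨ξ', hξ', hle', -⟩ := exists_isMax y
  have hnot : ξ ∉ closure ({ξ'} : Set P.left) := fun h => hne (by
    rw [← hξ _ (specializes_iff_mem_closure.2 h)] at he
    exact he ▸ hle'.mem_closure)
  obtain ⟨U, hU, hξU, hsub⟩ := exists_isAffineOpen_mem_and_subset (x := ξ)
    (U := (⟨(closure {ξ'})ᶜ, isClosed_closure.isOpen_compl⟩ : P.left.Opens)) hnot
  have hclop : IsClopen (sweep a U) :=
    ⟨by rw [sweep_eq_closure ha U (hU.isCompact.isRetrocompact U.2)]; exact isClosed_closure, isOpen_sweep a U⟩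
  obtain ⟨ξ'', hξ'', hle'', hU''⟩ := (mem_sweep_iff ha U).1
    (hclop.connectedComponent_subset ((mem_sweep_iff ha U).2 ⟨ξ, hξ, hle, hξU⟩) hy)
  exact hsub hU'' (by rw [unique_max ha hξ'' hξ' hle'' hle']; exact subset_closure rfl)

/-- The unit component sweeps out the component of a rational point. -/
theorem image_orbitMap (ha : Trans a) (x : 𝟙_ (Over (Spec (CommRingCat.of k))) ⟶ P) :
    (a.orbitMap x).left.base '' Z₀ G = irreducibleComponent (x.left.base (IsLocalRing.closedPoint k)) := by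
  obtain ⟨G₀, _, a₀, i, -, hact, hi, hrange, hlift⟩ := exists_restrict a
  let x₀ := x.left.base (IsLocalRing.closedPoint k)
  have horb : a₀.orbitMap x = i ≫ a.orbitMap x := by
    have h1 : lift (𝟙 G₀) (toUnit G₀ ≫ x) ≫ (i ▷ P) = lift i (toUnit G₀ ≫ x) := by ext <;> simp
    rw [AlgGrp.Action.orbitMap, AlgGrp.Action.orbitMap, hact, reassoc_of% h1, comp_lift_assoc, Category.comp_id,
      comp_toUnit_assoc]
  have hR : (a.orbitMap x).left.base '' Z₀ G = Set.range (a₀.orbitMap x).left.base := by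
    rw [horb, ← hrange, ← Set.range_comp]
    rfl
  rw [hR]
  have hx₀ : x₀ ∈ Set.range (a₀.orbitMap x).left.base := by
    refine ⟨η[G₀].left (IsLocalRing.closedPoint k), ?_⟩
    rw [← Scheme.Hom.comp_apply, ← Over.comp_left]
    congr 1
    rw [AlgGrp.Action.orbitMap, comp_lift_assoc, Category.comp_id, comp_toUnit_assoc,
      show (η[G₀] : 𝟙_ _ ⟶ G₀) = 1 by rw [Hom.one_def, toUnit_unique (toUnit _) (𝟙 _), Category.id_comp],
      GrothLib.GrpSchField.act_one, toUnit_unique (toUnit _) (𝟙 _), Category.id_comp]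
  have hstab : ∀ {r : ↥(G ⊗ P).left}, (fst G P).left r ∈ Z₀ G →
      (snd G P).left r ∈ Set.range (a₀.orbitMap x).left.base → a.act.left r ∈ Set.range (a₀.orbitMap x).left.base := by
    intro r hr h
    obtain ⟨r₀, rfl⟩ := hlift r hr
    rw [← Scheme.Hom.comp_apply, ← Over.comp_left, ← hact]
    refine GrothLib.GrpSchField.act_mem_range_orbitMap a₀ x ?_
    rwa [← Scheme.Hom.comp_apply, ← Over.comp_left, whiskerRight_snd] at h
  obtain ⟨ξ, hξ, hle, he⟩ := exists_isMax x₀
  refine Set.Subset.antisymm ?_ fun y hy => ?_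
  · rintro _ ⟨g, rfl⟩
    let φ : G₀ ⟶ G ⊗ P := lift i (toUnit G₀ ≫ x)
    have h1 : φ ≫ a.act = a₀.orbitMap x := by
      rw [horb, AlgGrp.Action.orbitMap, comp_lift_assoc, Category.comp_id, comp_toUnit_assoc]
    have hg : (fst G P).left (φ.left g) ∈ Z₀ G := by
      rw [← hrange, ← Scheme.Hom.comp_apply, ← Over.comp_left, lift_fst]
      exact Set.mem_range_self g
    have hs : (snd G P).left (φ.left g) = x₀ := by
      rw [← Scheme.Hom.comp_apply, ← Over.comp_left, lift_snd, Over.comp_left, Scheme.Hom.comp_apply,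
        Subsingleton.elim (α := Spec (CommRingCat.of k)) ((toUnit G₀).left g) (IsLocalRing.closedPoint k)]
    have h2 := (isMax_specializes_act_iff ha hg hξ).2 (hs.symm ▸ hle)
    rw [← Scheme.Hom.comp_apply, ← Over.comp_left, h1] at h2
    rw [← he]
    exact h2.mem_closure
  · obtain ⟨r₁, h₁, h₁s, h₁a⟩ := exists_to_max ha hξ hle
    have hξR : ξ ∈ Set.range (a₀.orbitMap x).left.base := h₁a ▸ hstab (mem_Z₀ h₁) (h₁s.symm ▸ hx₀)
    obtain ⟨r₂, h₂, h₂s, h₂a⟩ := exists_from_max ha hξ (specializes_iff_mem_closure.2 (he.symm ▸ hy))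
    exact h₂a ▸ hstab (mem_Z₀ h₂) (h₂s.symm ▸ hξR)

theorem trans_extend (ha : Trans a) {T : Over (Spec (CommRingCat.of k))} [Subsingleton T.left]
    (hΦ : Surjective (lift a.act (snd G P)).left) :
    ∃ b : AlgGrp.Action G (P ⊗ T), Trans b := by
  let b : AlgGrp.Action G (P ⊗ T) :=
    { act := lift (lift (fst G (P ⊗ T)) (snd G (P ⊗ T) ≫ fst P T) ≫ a.act) (snd G (P ⊗ T) ≫ snd P T)
      one_act := by
        apply hom_ext_points₂
        intro R e z
        have he : e ≫ η[G] = 1 := by rw [Hom.one_def, toUnit_unique e (toUnit R)]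
        ext <;> simp [comp_lift_assoc, he, GrothLib.GrpSchField.act_one]
      mul_act := by
        apply hom_ext_points₂
        intro R gh z
        obtain ⟨g, h, rfl⟩ : ∃ g h, gh = lift g h := ⟨gh ≫ fst _ _, gh ≫ snd _ _, by ext <;> simp⟩
        ext <;> simp [comp_lift_assoc, ← Hom.mul_def, GrothLib.GrpSchField.act_mul] }
  refine ⟨b, fun y z => ?_⟩
  obtain ⟨w, hw₁, hw₂⟩ := Scheme.Pullback.exists_preimage_pullback (f := (snd P T).left) (g := (snd P T).left) y z
    (Subsingleton.elim _ _)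
  let Q : Over (Spec (CommRingCat.of k)) := Over.mk (pullback.fst (snd P T).left (snd P T).left ≫ (P ⊗ T).hom)
  let y₁ : Q ⟶ P ⊗ T := Over.homMk (pullback.fst _ _) rfl
  let z₁ : Q ⟶ P ⊗ T := Over.homMk (pullback.snd _ _) (by
    show pullback.snd (snd P T).left (snd P T).left ≫ (P ⊗ T).hom = pullback.fst (snd P T).left (snd P T).left ≫ (P ⊗ T).hom
    rw [← Over.w (snd P T), ← Category.assoc, ← pullback.condition, Category.assoc])
  have hc : y₁ ≫ snd P T = z₁ ≫ snd P T := Over.OverMorphism.ext pullback.condition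
  let t : Q ⟶ P ⊗ P := lift (y₁ ≫ fst P T) (z₁ ≫ fst P T)
  let sΦ := lift a.act (snd G P)
  obtain ⟨q₀, hq₀⟩ := hΦ.surj (t.left w)
  obtain ⟨v, hv₁, hv₂⟩ := Scheme.Pullback.exists_preimage_pullback (f := sΦ.left) (g := t.left) q₀ w hq₀
  let R : Over (Spec (CommRingCat.of k)) := Over.mk (pullback.snd sΦ.left t.left ≫ Q.hom)
  let rQ : R ⟶ Q := Over.homMk (pullback.snd _ _) rfl
  let rG : R ⟶ G ⊗ P := Over.homMk (pullback.fst _ _) (by
    show pullback.fst sΦ.left t.left ≫ (G ⊗ P).hom = pullback.snd sΦ.left t.left ≫ Q.hom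
    rw [← Over.w sΦ, ← Category.assoc, pullback.condition, Category.assoc, Over.w t])
  have hR : rG ≫ sΦ = rQ ≫ t := Over.OverMorphism.ext pullback.condition
  let ψ : R ⟶ G ⊗ (P ⊗ T) := lift (rG ≫ fst G P) (lift (rG ≫ snd G P) (rQ ≫ y₁ ≫ snd P T))
  have hR1 := hR =≫ fst P P
  have hR2 := hR =≫ snd P P
  simp [sΦ, t] at hR1 hR2
  have e1 : ψ ≫ b.act = rQ ≫ y₁ := by
    have e : lift (rG ≫ fst G P) (rG ≫ snd G P) = rG := by ext <;> simp
    ext <;> simp [ψ, b, comp_lift_assoc, e, hR1]
  have e2 : ψ ≫ snd G (P ⊗ T) = rQ ≫ z₁ := by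
    ext <;> simp [ψ, hR2, hc]
  refine ⟨ψ.left v, ?_, ?_⟩
  · rw [← Scheme.Hom.comp_apply, ← Over.comp_left, e1, Over.comp_left, Scheme.Hom.comp_apply]
    show y₁.left ((pullback.snd sΦ.left t.left) v) = y
    rw [hv₂]
    exact hw₁
  · rw [← Scheme.Hom.comp_apply, ← Over.comp_left, e2, Over.comp_left, Scheme.Hom.comp_apply]
    show z₁.left ((pullback.snd sΦ.left t.left) v) = z
    rw [hv₂]
    exact hw₂

/-- The component of a rational point is geometrically irreducible. -/
theorem isIrreducible_preimage (hΦ : Surjective (lift a.act (snd G P)).left)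
    (x : 𝟙_ (Over (Spec (CommRingCat.of k))) ⟶ P) {C : Set P.left} (hC : C ∈ irreducibleComponents ↥P.left)
    (hx : x.left.base (IsLocalRing.closedPoint k) ∈ C) {K : Type u} [Field K]
    (b : Spec (CommRingCat.of K) ⟶ Spec (CommRingCat.of k)) :
    IsIrreducible ((pullback.fst P.hom b).base ⁻¹' C) := by
  let I := Scheme.IdealSheafData.vanishingIdeal ⟨C, isClosed_of_mem_irreducibleComponents C hC⟩
  let incl := I.subschemeι
  have hr : Set.range incl.base = C := by
    rw [Scheme.IdealSheafData.range_subschemeι, Scheme.IdealSheafData.coe_support_vanishingIdeal]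
    first | rfl | simp
  haveI : IrreducibleSpace I.subscheme := by
    obtain ⟨c, hc⟩ := QuasiSober.sober hC.1 (isClosed_of_mem_irreducibleComponents C hC)
    obtain ⟨z, hz⟩ : c ∈ Set.range incl.base := hr.symm ▸ hc.mem
    have hz' : closure ({z} : Set I.subscheme) = Set.univ := by
      rw [incl.isEmbedding.isInducing.closure_eq_preimage_closure_image, Set.image_singleton, hz, hc.def, ← hr, Set.preimage_range]
    have h := (isIrreducible_singleton (x := z)).closure
    rw [hz'] at h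
    exact { isPreirreducible_univ := h.2, toNonempty := ⟨z⟩ }
  haveI : GeometricallyIrreducible (incl ≫ P.hom) := by
    refine GrothLib.GrpSchField.geometricallyIrreducible_component_of_directed P x incl (hr.symm ▸ hC) (hr.symm ▸ hx) ?_
    intro y₁ y₂ h₁ h₂
    let A := Over.mk (Spec.map (CommRingCat.ofHom (algebraMap k (AlgebraicClosure k))))
    haveI : Subsingleton A.left := inferInstanceAs (Subsingleton (Spec (CommRingCat.of (AlgebraicClosure k))))
    obtain ⟨a', ha'⟩ := trans_extend (T := A) (trans_of_surjective hΦ) hΦ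
    obtain ⟨η₁, hm₁, hl₁, -⟩ := exists_isMax ((β_ A P).hom.left y₁)
    obtain ⟨η₂, hm₂, hl₂, -⟩ := exists_isMax ((β_ A P).hom.left y₂)
    have he := unique_max ha' hm₁ hm₂ (hl₁.trans (h₁.map (β_ A P).hom.left.continuous))
      (hl₂.trans (h₂.map (β_ A P).hom.left.continuous))
    subst he
    have hid : ∀ y, (β_ A P).inv.left ((β_ A P).hom.left y) = y := fun y => by
      rw [← Scheme.Hom.comp_apply, ← Over.comp_left, Iso.hom_inv_id]
      rfl
    refine ⟨(β_ A P).inv.left η₁, ?_, ?_⟩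
    · rw [← hid y₁]; exact hl₁.map (β_ A P).inv.left.continuous
    · rw [← hid y₂]; exact hl₂.map (β_ A P).inv.left.continuous
  haveI : UniversallyOpen (incl ≫ P.hom) := inferInstance
  let J := pullback.map (incl ≫ P.hom) b P.hom b incl (𝟙 _) (𝟙 _) (by simp) (by simp)
  have hJ : (pullback.fst P.hom b).base ⁻¹' C = Set.range J.base := by
    show _ = Set.range (pullback.map (incl ≫ P.hom) b P.hom b incl (𝟙 _) (𝟙 _) (by simp) (by simp)).base
    rw [Scheme.Pullback.range_map, hr]
    simp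
  rw [hJ, ← Set.image_univ]
  exact (IrreducibleSpace.isIrreducible_univ _).image _ J.continuous.continuousOn

end GrothLib.Homog14
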