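import Groth.Agent.Lib.ProfTranslate.Component
import Groth.Agent.Lib.GrpSchField.Orbit
import Groth.Agent.Lib.AlgSp.FieldBase
import Groth.Agent.Lib.GrpSchField.Points

/-!
# Homogeneous schemes over a field: every point lies on one irreducible component
-/

set_option autoImplicit false
set_option backward.isDefEq.respectTransparency false

universe u

open CategoryTheory CategoryTheory.Limits MonoidalCategory CartesianMonoidalCategory MonObj GrpObj
open AlgebraicGeometry TopologicalSpace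
open GrothLib.GrpSchField (hom_ext_points₂)

noncomputable section

namespace GrothLib.Homog14

variable {k : Type u} [Field k] {G P : Over (Spec (CommRingCat.of k))} [GrpObj G]

/-- A maximal point. -/
def IsMax {P : Scheme.{u}} (ξ : P) : Prop := ∀ y : P, y ⤳ ξ → y = ξ

theorem exists_isMax {P : Scheme.{u}} (z : P) : ∃ ξ : P, IsMax ξ ∧ ξ ⤳ z ∧ closure {ξ} = irreducibleComponent z := by
  obtain ⟨ξ, hξ⟩ := QuasiSober.sober (isIrreducible_irreducibleComponent (x := z)) isClosed_irreducibleComponent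
  refine ⟨ξ, fun y hy => ?_, hξ.specializes mem_irreducibleComponent, hξ⟩
  have e : irreducibleComponent z = closure {y} :=
    (irreducibleComponent_mem_irreducibleComponents z).eq_of_le isIrreducible_singleton.closure
      (by rw [← hξ.def]; exact hy.closure_subset)
  exact IsGenericPoint.eq (S := closure {y}) rfl (by rw [← e]; exact hξ)

theorem IsMax.mem_components {P : Scheme.{u}} {ξ : P} (h : IsMax ξ) : closure {ξ} ∈ irreducibleComponents ↥P := by
  obtain ⟨η', hη', hle, he⟩ := exists_isMax ξ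
  rw [← h η' hle, he]
  exact irreducibleComponent_mem_irreducibleComponents ξ

theorem exists_isMax_of_mem {P : Scheme.{u}} {C : Set P} (hC : C ∈ irreducibleComponents ↥P) :
    ∃ ξ : P, IsMax ξ ∧ closure {ξ} = C := by
  obtain ⟨ξ, hξ⟩ := QuasiSober.sober hC.1 (isClosed_of_mem_irreducibleComponents C hC)
  refine ⟨ξ, fun y hy => ?_, hξ⟩
  have e : C = closure {y} := hC.eq_of_le isIrreducible_singleton.closure
    (by rw [← hξ.def]; exact hy.closure_subset)
  exact IsGenericPoint.eq (S := closure {y}) rfl (by rw [← e]; exact hξ)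

/-- The group acts transitively on points. -/
def Trans (a : AlgGrp.Action G P) : Prop :=
  ∀ y z : P.left, ∃ q : ↥(G ⊗ P).left, a.act.left q = y ∧ (snd G P).left q = z

theorem trans_of_surjective {a : AlgGrp.Action G P} (h : Surjective (lift a.act (snd G P)).left) : Trans a := by
  intro y z
  obtain ⟨w, hw₁, hw₂⟩ := Scheme.Pullback.exists_preimage_pullback (f := P.hom) (g := P.hom) y z
    (Subsingleton.elim (α := Spec (CommRingCat.of k)) _ _)
  obtain ⟨q, hq⟩ := h.surj w
  refine ⟨q, ?_, ?_⟩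
  · rw [← hw₁, ← hq]
    exact congrArg (fun f : G ⊗ P ⟶ P => f.left q) (lift_fst a.act (snd G P)).symm
  · rw [← hw₂, ← hq]
    exact congrArg (fun f : G ⊗ P ⟶ P => f.left q) (lift_snd a.act (snd G P)).symm

theorem generalizing_act (a : AlgGrp.Action G P) : GeneralizingMap a.act.left := by
  haveI : Flat G.hom := GrothLib.AlgSp.flat_to_field _
  haveI : Flat a.act.left := GrothLib.GrpSchField.act_property @Flat a ‹Flat G.hom›
  exact Flat.generalizingMap _

theorem universallyOpen_act {G₀ : Over (Spec (CommRingCat.of k))} [GrpObj G₀] (a : AlgGrp.Action G₀ P) :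
    UniversallyOpen a.act.left := by
  haveI : UniversallyOpen (snd G₀ P).left := GrothLib.GrpSchField.universallyOpen_snd P _
  have := GrothLib.GrpSchField.isIso_left (GrothLib.GrpSchField.shear a).hom
  rw [GrothLib.GrpSchField.act_left_eq]
  infer_instance

section Point

variable {K : Type u} [Field K] (b : Spec (CommRingCat.of K) ⟶ Spec (CommRingCat.of k))

/-- Multiplication on the left of a point of `G ⊗ T`. -/
def mulT (G T : Over (Spec (CommRingCat.of k))) [GrpObj G] : G ⊗ (G ⊗ T) ⟶ G ⊗ T :=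
  lift (fst G (G ⊗ T) * (snd G (G ⊗ T) ≫ fst G T)) (snd G (G ⊗ T) ≫ snd G T)

theorem isPullback_mulT (G T : Over (Spec (CommRingCat.of k))) [GrpObj G] :
    IsPullback (mulT G T) (snd G (G ⊗ T)) (snd G T) (snd G T) := by
  refine IsPullback.of_isLimit' ⟨by simp [mulT]⟩ (PullbackCone.IsLimit.mk _
    (fun s => lift ((s.fst ≫ fst G T) * (s.snd ≫ fst G T)⁻¹) s.snd) (fun s => ?_) (fun s => lift_snd _ _)
    (fun s m h₁ h₂ => ?_))
  · have hc : s.fst ≫ snd G T = s.snd ≫ snd G T := s.condition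
    refine CartesianMonoidalCategory.hom_ext _ _ ?_ ?_
    · simp [mulT, MonObj.comp_mul, _root_.inv_mul_cancel_right]
    · simp [mulT, hc]
  · refine CartesianMonoidalCategory.hom_ext _ _ ?_ (by simp [h₂])
    simp [← h₁, ← h₂, mulT, MonObj.comp_mul]

/-- Generizations are translates by elements specializing to the unit. -/
theorem exists_mulT {q η' : ↥(G ⊗ Over.mk b).left} (h : η' ⤳ q) :
    ∃ r : ↥(G ⊗ (G ⊗ Over.mk b)).left, (fst G (G ⊗ Over.mk b)).left r ⤳ η[G].left (IsLocalRing.closedPoint k) ∧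
      (snd G (G ⊗ Over.mk b)).left r = q ∧ (mulT G (Over.mk b)).left r = η' := by
  let T := Over.mk b
  let u₀ := (G ⊗ T).left.fromSpecResidueField q
  let s : G ⊗ T ⟶ G ⊗ (G ⊗ T) := lift (toUnit _ ≫ η[G]) (𝟙 _)
  have hs₁ : s ≫ snd G (G ⊗ T) = 𝟙 _ := lift_snd _ _
  have hs₂ : s ≫ mulT G T = 𝟙 _ := by
    rw [mulT, comp_lift, MonObj.comp_mul, lift_fst, reassoc_of% hs₁, reassoc_of% hs₁, ← Hom.one_def, _root_.one_mul,
      lift_fst_snd]
  obtain ⟨p₀, hp₀, -⟩ := Scheme.Pullback.exists_preimage_pullback (f := (snd G (G ⊗ T)).left) (g := u₀) (s.left q) default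
    (by rw [← Scheme.Hom.comp_apply, ← Over.comp_left, hs₁, Scheme.fromSpecResidueField_apply]; rfl)
  let π₁ := pullback.fst (snd G (G ⊗ T)).left u₀
  haveI : Flat (u₀ ≫ (snd G T).left) := GrothLib.AlgSp.flat_to_field (k := K) _
  haveI : Flat (π₁ ≫ (mulT G T).left) :=
    MorphismProperty.of_isPullback (P := @Flat)
      ((IsPullback.of_hasPullback (snd G (G ⊗ T)).left u₀).flip.paste_vert
        ((isPullback_mulT G T).map (Over.forget _)).flip) ‹Flat (u₀ ≫ (snd G T).left)›
  obtain ⟨p, hp, hpη⟩ := (Flat.generalizingMap (π₁ ≫ (mulT G T).left)) (a := p₀) (b := η') (by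
    rw [Scheme.Hom.comp_apply, hp₀, ← Scheme.Hom.comp_apply, ← Over.comp_left, hs₂]
    exact h)
  refine ⟨π₁ p, ?_, ?_, hpη⟩
  · have h1 := (hp.map π₁.continuous).map (fst G (G ⊗ T)).left.continuous
    rw [hp₀] at h1
    refine h1.trans (specializes_of_eq ?_)
    rw [← Scheme.Hom.comp_apply, ← Over.comp_left,
      show s ≫ fst G (G ⊗ T) = toUnit _ ≫ η[G] from lift_fst _ _, Over.comp_left, Scheme.Hom.comp_apply,
      Subsingleton.elim (α := Spec (CommRingCat.of k)) ((toUnit (G ⊗ T)).left q) (IsLocalRing.closedPoint k)]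
  · show (π₁ ≫ (snd G (G ⊗ T)).left) p = q
    rw [pullback.condition, Scheme.Hom.comp_apply, Scheme.fromSpecResidueField_apply]

theorem irreducibleComponent_eq_of_mem {Z₁ Z₂ : Set ↥(G ⊗ Over.mk b).left}
    (h₁ : Z₁ ∈ irreducibleComponents ↥(G ⊗ Over.mk b).left) (h₂ : Z₂ ∈ irreducibleComponents ↥(G ⊗ Over.mk b).left)
    {q : ↥(G ⊗ Over.mk b).left} (hq₁ : q ∈ Z₁) (hq₂ : q ∈ Z₂) : Z₁ = Z₂ :=
  letI : GrpObj ((Over.pullback b).obj G) := Functor.grpObjObj
  GrothLib.GrpSchField.irreducibleComponent_eq_of_mem ((Over.pullback b).obj G) h₁ h₂ hq₁ hq₂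

theorem exists_top {q : ↥(G ⊗ Over.mk b).left} : ∃ η' : ↥(G ⊗ Over.mk b).left, ∀ q', q' ⤳ q → η' ⤳ q' := by
  obtain ⟨η', hη', hle, he⟩ := exists_isMax q
  refine ⟨η', fun q' hq' => specializes_iff_mem_closure.2 (he ▸ ?_)⟩
  obtain ⟨η'', hη'', hle', he'⟩ := exists_isMax q'
  rw [irreducibleComponent_eq_of_mem b (irreducibleComponent_mem_irreducibleComponents q)
    (irreducibleComponent_mem_irreducibleComponents q') mem_irreducibleComponent
    (he' ▸ specializes_iff_mem_closure.1 (hle'.trans hq'))]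
  exact mem_irreducibleComponent

end Point

variable {a : AlgGrp.Action G P}

/-- Restricting the action to a maximal point gives a generalizing surjection. -/
theorem exists_point_map (ha : Trans a) {ξ : P.left} (hξ : IsMax ξ) :
    ∃ (K : Type u) (_ : Field K) (b : Spec (CommRingCat.of K) ⟶ Spec (CommRingCat.of k)) (j : Over.mk b ⟶ P),
      Function.Surjective ((G ◁ j) ≫ a.act).left.base ∧ GeneralizingMap ((G ◁ j) ≫ a.act).left.base ∧
        ∀ t, j.left t = ξ := by
  let T : Over (Spec (CommRingCat.of k)) := Over.mk (P.left.fromSpecResidueField ξ ≫ P.hom)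
  let j : T ⟶ P := Over.homMk (P.left.fromSpecResidueField ξ) rfl
  have hj : ∀ t, j.left t = ξ := fun t => Scheme.fromSpecResidueField_apply _ t
  have sq := GrothLib.GrpSchField.whiskerLeft_snd_isPullback G j
  haveI : IsPreimmersion (G ◁ j).left :=
    MorphismProperty.of_isPullback (P := @IsPreimmersion) sq.flip (inferInstanceAs (IsPreimmersion (P.left.fromSpecResidueField ξ)))
  have hmem : ∀ q : ↥(G ⊗ P).left, (snd G P).left q = ξ → ∃ r, (G ◁ j).left r = q := fun q hq => by
    obtain ⟨w, hw, -⟩ := Scheme.exists_preimage_of_isPullback sq q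
      (default : Spec (P.left.residueField ξ)) (hq.trans (hj _).symm)
    exact ⟨w, hw⟩
  refine ⟨P.left.residueField ξ, inferInstance, _, j, fun y => ?_, fun r y hy => ?_, hj⟩
  · obtain ⟨q, hq₁, hq₂⟩ := ha y ξ
    obtain ⟨r, rfl⟩ := hmem q hq₂
    exact ⟨r, by rw [Over.comp_left, Scheme.Hom.comp_apply]; exact hq₁⟩
  · rw [Over.comp_left, Scheme.Hom.comp_apply] at hy
    obtain ⟨q, hq, rfl⟩ := generalizing_act a hy
    have hq2 : (snd G P).left q = ξ := hξ _ (by
      refine (hq.map (snd G P).left.continuous).trans (specializes_of_eq ?_)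
      rw [← Scheme.Hom.comp_apply, ← Over.comp_left, whiskerLeft_snd, Over.comp_left, Scheme.Hom.comp_apply]
      exact hj _)
    obtain ⟨r', rfl⟩ := hmem q hq2
    refine ⟨r', (G ◁ j).left.isEmbedding.isInducing.specializes_iff.1 hq, ?_⟩
    rw [Over.comp_left, Scheme.Hom.comp_apply]

/-- A point lies below a single maximal point. -/
theorem unique_max (ha : Trans a) {ξ₁ ξ₂ z : P.left} (h₁ : IsMax ξ₁) (h₂ : IsMax ξ₂)
    (hz₁ : ξ₁ ⤳ z) (hz₂ : ξ₂ ⤳ z) : ξ₁ = ξ₂ := by
  obtain ⟨K, _, b, j, hs, hg, -⟩ := exists_point_map ha h₁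
  obtain ⟨q, rfl⟩ := hs z
  obtain ⟨q₁, hq₁, rfl⟩ := hg hz₁
  obtain ⟨q₂, hq₂, rfl⟩ := hg hz₂
  obtain ⟨η', hη'⟩ := exists_top b (q := q)
  rw [← h₁ _ ((hη' q₁ hq₁).map (((G ◁ j) ≫ a.act).left.continuous)),
    ← h₂ _ ((hη' q₂ hq₂).map (((G ◁ j) ≫ a.act).left.continuous))]

theorem component_unique (ha : Trans a) {C₁ C₂ : Set P.left} (h₁ : C₁ ∈ irreducibleComponents ↥P.left)
    (h₂ : C₂ ∈ irreducibleComponents ↥P.left) {z : P.left} (hz₁ : z ∈ C₁) (hz₂ : z ∈ C₂) : C₁ = C₂ := by
  obtain ⟨ξ₁, hm₁, rfl⟩ := exists_isMax_of_mem h₁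
  obtain ⟨ξ₂, hm₂, rfl⟩ := exists_isMax_of_mem h₂
  rw [unique_max ha hm₁ hm₂ (specializes_iff_mem_closure.2 hz₁) (specializes_iff_mem_closure.2 hz₂)]

/-- A point is moved to its maximal generization by an element near the unit. -/
theorem exists_to_max (ha : Trans a) {ξ y : P.left} (hξ : IsMax ξ) (hy : ξ ⤳ y) :
    ∃ r : ↥(G ⊗ P).left, (fst G P).left r ⤳ η[G].left (IsLocalRing.closedPoint k) ∧
      (snd G P).left r = y ∧ a.act.left r = ξ := by
  obtain ⟨K, _, b, j, hs, hg, -⟩ := exists_point_map ha hξ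
  let p := (G ◁ j) ≫ a.act
  obtain ⟨q, rfl⟩ := hs y
  obtain ⟨η', hη', hp⟩ := hg hy
  obtain ⟨r, hr₁, hr₂, hr₃⟩ := exists_mulT b hη'
  refine ⟨(G ◁ p).left r, ?_, ?_, ?_⟩
  · rwa [← Scheme.Hom.comp_apply, ← Over.comp_left, whiskerLeft_fst]
  · rw [← Scheme.Hom.comp_apply, ← Over.comp_left, whiskerLeft_snd, Over.comp_left, Scheme.Hom.comp_apply, hr₂]
  · have e : (G ◁ p) ≫ a.act = mulT G (Over.mk b) ≫ p := by
      apply hom_ext_points₂
      intro R g h
      have e1 : h ≫ (G ◁ j) = lift (h ≫ fst G _) (h ≫ snd G _ ≫ j) := by ext <;> simp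
      simp [p, mulT, comp_lift_assoc, MonObj.comp_mul, GrothLib.GrpSchField.act_mul, reassoc_of% e1]
    rw [← Scheme.Hom.comp_apply, ← Over.comp_left, e, Over.comp_left, Scheme.Hom.comp_apply, hr₃]
    exact hp

theorem exists_from_max (ha : Trans a) {ξ y : P.left} (hξ : IsMax ξ) (hy : ξ ⤳ y) :
    ∃ r : ↥(G ⊗ P).left, (fst G P).left r ⤳ η[G].left (IsLocalRing.closedPoint k) ∧
      (snd G P).left r = ξ ∧ a.act.left r = y := by
  obtain ⟨r, h₁, h₂, h₃⟩ := exists_to_max ha hξ hy
  let i : G ⊗ P ⟶ G ⊗ P := lift (fst G P)⁻¹ a.act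
  refine ⟨i.left r, ?_, ?_, ?_⟩
  · rw [← Scheme.Hom.comp_apply, ← Over.comp_left, show i ≫ fst G P = fst G P ≫ ι from (lift_fst _ _).trans (Hom.inv_def _),
      Over.comp_left, Scheme.Hom.comp_apply]
    refine (h₁.map (ι : G ⟶ G).left.continuous).trans (specializes_of_eq ?_)
    rw [← Scheme.Hom.comp_apply, ← Over.comp_left, GrpObj.one_inv]
  · rw [← Scheme.Hom.comp_apply, ← Over.comp_left, show i ≫ snd G P = a.act from lift_snd _ _, h₃]
  · rw [← Scheme.Hom.comp_apply, ← Over.comp_left, show i ≫ a.act = snd G P by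
      apply hom_ext_points₂
      intro T g z
      simp [i, comp_lift_assoc, GrpObj.comp_inv, ← GrothLib.GrpSchField.act_mul, GrothLib.GrpSchField.act_one], h₂]

variable (G) in
/-- The component of the unit. -/
abbrev Z₀ : Set G.left := GrothLib.ProfTranslate.unitComponent G

theorem mem_Z₀ {g : G.left} (h : g ⤳ η[G].left (IsLocalRing.closedPoint k)) : g ∈ Z₀ G := by
  have h1 := isIrreducible_singleton.closure.isConnected.isPreconnected.subset_connectedComponent
    (h.mem_closure : η[G].left (IsLocalRing.closedPoint k) ∈ closure ({g} : Set G.left))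
  exact h1 (subset_closure rfl)

/-- The translates of a set by the component of the unit. -/
def sweep (a : AlgGrp.Action G P) (U : Set P.left) : Set P.left :=
  a.act.left.base '' {r | (fst G P).left r ∈ Z₀ G ∧ (snd G P).left r ∈ U}

/-- The action restricted to the component of the unit. -/
theorem exists_restrict (a : AlgGrp.Action G P) :
    ∃ (G₀ : Over (Spec (CommRingCat.of k))) (_ : GrpObj G₀) (a₀ : AlgGrp.Action G₀ P) (i : G₀ ⟶ G),
      GeometricallyIrreducible G₀.hom ∧ a₀.act = (i ▷ P) ≫ a.act ∧ IsMonHom i ∧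
        Set.range i.left = Z₀ G ∧
        ∀ r : ↥(G ⊗ P).left, (fst G P).left r ∈ Z₀ G → ∃ r₀, (i ▷ P).left r₀ = r := by
  obtain ⟨_, hi⟩ := GrothLib.ProfTranslate.exists_grpObj G
  let i := GrothLib.ProfTranslate.componentIncl G
  let a₀ : AlgGrp.Action (GrothLib.ProfTranslate.component G) P :=
    { act := (i ▷ P) ≫ a.act
      one_act := by
        rw [← Category.assoc, ← MonoidalCategory.comp_whiskerRight, IsMonHom.one_hom, a.one_act]
      mul_act := by
        apply hom_ext_points₂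
        intro T gh z
        obtain ⟨g, h, rfl⟩ : ∃ g h, gh = lift g h := ⟨gh ≫ fst _ _, gh ≫ snd _ _, by ext <;> simp⟩
        simp [lift_whiskerRight_assoc, lift_whiskerLeft_assoc, IsMonHom.mul_hom, ← Hom.mul_def, MonObj.mul_comp,
          GrothLib.GrpSchField.act_mul] }
  refine ⟨_, inferInstance, a₀, i, GrothLib.ProfTranslate.geometricallyIrreducible G, rfl, hi,
    GrothLib.ProfTranslate.range_subschemeι G, fun r hr => ?_⟩
  have hr' : (fst G P).left r ∈ Set.range i.left := by
    rw [show Set.range i.left = Z₀ G from GrothLib.ProfTranslate.range_subschemeι G]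
    exact hr
  show r ∈ Set.range (i ▷ P).left
  rw [Over.whiskerRight_left]
  erw [Scheme.Pullback.range_map]
  exact ⟨hr', ⟨_, rfl⟩⟩

end GrothLib.Homog14
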