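import Groth.Agent.Lib.Homog14.Sweep
import Groth.Agent.Lib.SepAct.Homog
import Groth.Agent.Lib.CycFlat.Fibre
import Groth.Agent.Lib.Dim.Scheme

/-!
# Homogeneous schemes: all components have the same dimension
-/

set_option autoImplicit false
set_option backward.isDefEq.respectTransparency false

universe u

open CategoryTheory CategoryTheory.Limits MonoidalCategory CartesianMonoidalCategory MonObj GrpObj
open AlgebraicGeometry TopologicalSpace

noncomputable section

namespace GrothLib.Homog14

theorem dim_closure_image {A B : Scheme.{u}} (e : A ⟶ B) [IsIso e] (z : A) :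
    topologicalKrullDim (closure {z} : Set A) = topologicalKrullDim (closure {e.base z} : Set B) := by
  refine GrothLib.Dim.IsEmbedding.topologicalKrullDim_eq (f := fun w : (closure {z} : Set A) => e.base w.1)
    (e.isEmbedding.comp Topology.IsEmbedding.subtypeVal) ?_
  rw [Set.range_comp' e.base, Subtype.range_coe]
  exact (e.homeomorph.image_closure _).trans (congrArg closure Set.image_singleton)

section Field

variable {k : Type u} [Field k] {G P : Over (Spec (CommRingCat.of k))} [GrpObj G] {a : AlgGrp.Action G P}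

theorem dim_closure_eq (ha : Trans a) [LocallyOfFiniteType P.hom] {ξ₁ ξ₂ : P.left} (h₁ : IsMax ξ₁) (h₂ : IsMax ξ₂) :
    topologicalKrullDim (closure {ξ₁} : Set P.left) = topologicalKrullDim (closure {ξ₂} : Set P.left) := by
  obtain ⟨q, hq₂, hq₁⟩ := ha ξ₂ ξ₁
  let b := (G ⊗ P).left.fromSpecResidueField q ≫ (G ⊗ P).hom
  obtain ⟨φ, hφ⟩ := Spec.map_surjective b
  letI : Algebra k ((G ⊗ P).left.residueField q) := φ.hom.toAlgebra
  letI : Algebra k (IsLocalRing.ResidueField ((G ⊗ P).left.presheaf.stalk q)) := φ.hom.toAlgebra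
  let T : Over (Spec (CommRingCat.of k)) := Over.mk b
  let pq : T ⟶ G ⊗ P := Over.homMk ((G ⊗ P).left.fromSpecResidueField q) rfl
  let t₀ : T.left := (default : Spec ((G ⊗ P).left.residueField q))
  let τ := GrothLib.SepAct.transX a T (pq ≫ fst G P)
  let xh : T ⟶ P ⊗ T := lift (pq ≫ snd G P) (𝟙 T)
  obtain ⟨ζ, hζ, hle, -⟩ := exists_isMax (xh.left t₀)
  haveI : IsIso τ.hom.left := GrothLib.GrpSchField.isIso_left _
  have hpt : pq.left t₀ = q := Scheme.fromSpecResidueField_apply _ _
  have e1 : (fst P T).left ζ = ξ₁ := h₁ _ (by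
    refine (hle.map (fst P T).left.continuous).trans (specializes_of_eq ?_)
    rw [← Scheme.Hom.comp_apply, ← Over.comp_left, lift_fst, Over.comp_left, Scheme.Hom.comp_apply, hpt, hq₁])
  have e2 : (fst P T).left (τ.hom.left ζ) = ξ₂ := h₂ _ (by
    refine ((hle.map τ.hom.left.continuous).map (fst P T).left.continuous).trans (specializes_of_eq ?_)
    have e : xh ≫ τ.hom ≫ fst P T = pq ≫ a.act := by
      have e' : lift (pq ≫ fst G P) (pq ≫ snd G P) = pq := by ext <;> simp
      simp [τ, xh, GrothLib.SepAct.transX, comp_lift_assoc, e']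
    rw [← Scheme.Hom.comp_apply, ← Over.comp_left, ← Scheme.Hom.comp_apply, ← Over.comp_left, e,
      Over.comp_left, Scheme.Hom.comp_apply, hpt, hq₂])
  have hτζ : IsMax (τ.hom.left ζ) := fun w hw => by
    obtain ⟨v, rfl⟩ := τ.hom.left.homeomorph.surjective w
    exact congrArg _ (hζ v (τ.hom.left.isEmbedding.isInducing.specializes_iff.1 hw))
  have hb : b = Spec.map (CommRingCat.ofHom (algebraMap k ((G ⊗ P).left.residueField q))) := by
    rw [RingHom.algebraMap_toAlgebra, CommRingCat.ofHom_hom, hφ]
  have hpb : IsPullback (snd P T).left (fst P T).left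
      (Spec.map (CommRingCat.ofHom (algebraMap k ((G ⊗ P).left.residueField q)))) P.hom := by
    rw [← hb]
    exact (IsPullback.of_hasPullback P.hom b).flip
  rw [← e1, ← e2, ← GrothLib.CycFlat.dim_closure_eq_of_fieldExt P.hom hpb ζ hζ,
    ← GrothLib.CycFlat.dim_closure_eq_of_fieldExt P.hom hpb (τ.hom.left ζ) hτζ]
  exact dim_closure_image τ.hom.left ζ

theorem dim_connectedComponent_eq (ha : Trans a) [LocallyOfFiniteType P.hom] (x y : P.left) :
    topologicalKrullDim ↥(connectedComponent x) = topologicalKrullDim ↥(connectedComponent y) := by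
  haveI := LocallyOfFiniteType.isLocallyNoetherian P.hom
  obtain ⟨ξ₁, hm₁, -, he₁⟩ := exists_isMax x
  obtain ⟨ξ₂, hm₂, -, he₂⟩ := exists_isMax y
  rw [connectedComponent_eq ha, connectedComponent_eq ha, ← he₁, ← he₂]
  exact dim_closure_eq ha hm₁ hm₂

end Field

/-- Base change of an action along a surjective monomorphism of points. -/
theorem exists_bc {S : Scheme.{u}} {k : Type u} [Field k] (b : Spec (CommRingCat.of k) ⟶ S) [Surjective b]
    [IsPreimmersion b] {G P : Over S} [GrpObj G] (a : AlgGrp.Action G P)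
    (ha : Surjective (lift a.act (snd G P)).left) :
    ∃ (_ : GrpObj ((Over.pullback b).obj G)) (a₀ : AlgGrp.Action ((Over.pullback b).obj G) ((Over.pullback b).obj P)),
      Trans a₀ := by
  let F := Over.pullback b
  letI : GrpObj (F.obj G) := Functor.grpObjObj
  let a₀ : AlgGrp.Action (F.obj G) (F.obj P) :=
    { act := Functor.LaxMonoidal.μ F G P ≫ F.map a.act
      one_act := by
        rw [Functor.obj.η_def, MonoidalCategory.comp_whiskerRight, Category.assoc,
          Functor.LaxMonoidal.μ_natural_left_assoc, ← F.map_comp, a.one_act,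
          Functor.LaxMonoidal.left_unitality]
      mul_act := by
        rw [Functor.obj.μ_def, MonoidalCategory.comp_whiskerRight, Category.assoc,
          Functor.LaxMonoidal.μ_natural_left_assoc, ← F.map_comp, a.mul_act, F.map_comp, F.map_comp,
          Functor.LaxMonoidal.associativity_assoc, MonoidalCategory.whiskerLeft_comp, Category.assoc,
          Functor.LaxMonoidal.μ_natural_right_assoc] }
  refine ⟨inferInstance, a₀, fun y z => ?_⟩
  let π : ∀ (Q : Over S), (F.obj Q).left ⟶ Q.left := fun Q => pullback.fst Q.hom b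
  have hπ : Function.Injective (π P).base := by
    haveI : IsPreimmersion (π P) := MorphismProperty.pullback_fst (P := @IsPreimmersion) P.hom b ‹_›
    exact (π P).isEmbedding.injective
  obtain ⟨w, hw₁, hw₂⟩ := Scheme.Pullback.exists_preimage_pullback (f := P.hom) (g := P.hom) ((π P) y) ((π P) z) (by
    obtain ⟨s₁, hs₁⟩ := b.surjective (P.hom ((π P) y))
    obtain ⟨s₂, hs₂⟩ := b.surjective (P.hom ((π P) z))
    rw [← hs₁, ← hs₂, Subsingleton.elim (α := Spec (CommRingCat.of k)) s₁ s₂])
  obtain ⟨q, hq⟩ := ha.surj w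
  obtain ⟨q', hq'⟩ : ∃ q', (π (G ⊗ P)).base q' = q := by
    haveI : Surjective (π (G ⊗ P)) := MorphismProperty.pullback_fst (P := @Surjective) _ b ‹_›
    exact (π (G ⊗ P)).surjective q
  haveI : IsIso (Functor.LaxMonoidal.μ F G P).left :=
    inferInstanceAs (IsIso ((Over.forget _).map (Functor.LaxMonoidal.μ F G P)))
  obtain ⟨r, hr⟩ := (Functor.LaxMonoidal.μ F G P).left.homeomorph.surjective q'
  have key : ∀ (f : G ⊗ P ⟶ P), (π P) ((F.map f).left q') = f.left q := fun f => by
    rw [← Scheme.Hom.comp_apply, show (F.map f).left ≫ π P = π (G ⊗ P) ≫ f.left from pullback.lift_fst _ _ _,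
      Scheme.Hom.comp_apply, hq']
  refine ⟨r, hπ ?_, hπ ?_⟩
  · rw [Over.comp_left, Scheme.Hom.comp_apply]
    rw [show (Functor.LaxMonoidal.μ F G P).left r = q' from hr, key, ← hw₁, ← hq]
    exact congrArg (fun f : G ⊗ P ⟶ P => f.left q) (lift_fst a.act (snd G P)).symm
  · rw [← Functor.Monoidal.μ_snd F G P, Over.comp_left, Scheme.Hom.comp_apply,
      show (Functor.LaxMonoidal.μ F G P).left r = q' from hr, key, ← hw₂, ← hq]
    exact congrArg (fun f : G ⊗ P ⟶ P => f.left q) (lift_snd a.act (snd G P)).symm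

end GrothLib.Homog14
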